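import Mathlib
import Cfsg.Agent.Lib.Wl11.WeilA
import Cfsg.Agent.Lib.Wl5.Weil
import Cfsg.Agent.Lib.Wl5.Iso

/-! The centraliser of `z`: the basis.  See `plans/WL11.md`. -/

set_option autoImplicit false
set_option linter.unusedSectionVars false

namespace CfsgLib.Wl11

open Matrix Subgroup Cfsg Cfsg.Geo CfsgLib.Asch CfsgLib.Wl5
open scoped commutatorElement MatrixGroups

variable {F : Type*} [Field F]

/-- the squares -/
def embP : Fin 5 → Fin 11 := ![1, 3, 9, 5, 4]

def embR : Fin 6 → Fin 11 := ![0, 1, 3, 9, 5, 4]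

def embC5 (R : Type*) [Ring R] : Matrix (Fin 11) (Fin 5) R :=
  of fun i j => (if i = embP j then 1 else 0) - if i = -embP j then 1 else 0

def embC6 (R : Type*) [Ring R] : Matrix (Fin 11) (Fin 6) R :=
  of fun i j => (if i = embR j then 1 else 0) + if j = 0 then 0 else if i = -embR j then 1 else 0

def embD6 (R : Type*) [Ring R] : Matrix (Fin 6) (Fin 11) R :=
  of fun j i => (if i = embR j then 1 else 0) + if i = -embR j then 1 else 0

theorem emb_m5 : embC5 F = (embC5 ℤ).map (Int.castRingHom F) := by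
  ext i j
  simp [embC5]

theorem emb_m6 : embC6 F = (embC6 ℤ).map (Int.castRingHom F) := by
  ext i j
  simp [embC6]

theorem emb_m6' : embD6 F = (embD6 ℤ).map (Int.castRingHom F) := by
  ext i j
  simp [embD6]

theorem emb_B {h : F} (e : h * 2 = 1) : fromCols (embC5 F) (embC6 F) * fromRows (h • (embC5 F)ᵀ) (h • embD6 F) = 1 ∧
    fromRows (h • (embC5 F)ᵀ) (h • embD6 F) * fromCols (embC5 F) (embC6 F) = 1 := by
  have : fromCols (embC5 F) (embC6 F) * fromRows (h • (embC5 F)ᵀ) (h • embD6 F) = 1 := by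
    have k : embC5 ℤ * (embC5 ℤ)ᵀ + embC6 ℤ * embD6 ℤ = 1 + 1 := by decide +kernel
    rw [fromCols_mul_fromRows, Matrix.mul_smul, Matrix.mul_smul, ← smul_add, emb_m5, emb_m6, emb_m6', ← transpose_map,
      ← Matrix.map_mul, ← Matrix.map_mul, ← Matrix.map_add _ (map_add _), k, Matrix.map_add _ (map_add _),
      Matrix.map_one _ (map_zero _) (map_one _), ← two_smul F, smul_smul, e, one_smul]
  exact ⟨this, (mul_eq_one_comm_of_equiv (finSumFinEquiv (m := 5) (n := 6)).symm).1 this⟩

theorem emb_mul5 (M : M11x F) (i : Fin 11) (j : Fin 5) : (M * embC5 F) i j = M i (embP j) - M i (-embP j) := by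
  simp [mul_apply, embC5, mul_sub]

theorem emb_mul6 (M : M11x F) (i : Fin 11) (j : Fin 6) :
    (M * embC6 F) i j = M i (embR j) + if j = 0 then 0 else M i (-embR j) := by
  by_cases h : j = 0 <;> simp [mul_apply, embC6, mul_add, h, Finset.sum_add_distrib]

theorem emb_Z : Z11 F * embC5 F = -embC5 F ∧ Z11 F * embC6 F = embC6 F := by
  have k : ∀ i j : Fin 11, (i + j = 0 ↔ i = -j) ∧ (i + -j = 0 ↔ i = j) := by decide
  refine ⟨?_, ?_⟩ <;> ext i j
  · rw [emb_mul5]
    simp only [Z11, embC5, of_apply, Matrix.neg_apply, (k _ _).1, neg_neg, neg_sub]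
  · rw [emb_mul6]
    simp only [Z11, embC6, of_apply, (k _ _).1, neg_neg]
    by_cases h : j = 0
    · subst h; rfl
    · rw [if_neg h, if_neg h, add_comm]

theorem emb_row5 {M : M11x F} {m : Matrix (Fin 5) (Fin 5) F} (e : M * embC5 F = embC5 F * m) (i j : Fin 5) :
    m i j = M (embP i) (embP j) - M (embP i) (-embP j) := by
  have k : ∀ i k : Fin 5, (embP i = embP k ↔ i = k) ∧ embP i ≠ -embP k := by decide
  rw [← emb_mul5, e]
  simp [mul_apply, embC5, (k _ _).1, (k _ _).2]

theorem emb_row6 {M : M11x F} {m : Matrix (Fin 6) (Fin 6) F} (e : M * embC6 F = embC6 F * m) (i j : Fin 6) :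
    m i j = M (embR i) (embR j) + if j = 0 then 0 else M (embR i) (-embR j) := by
  have k : ∀ i k : Fin 6, (embR i = embR k ↔ i = k) ∧ (k ≠ 0 → embR i ≠ -embR k) := by decide
  have k' : ∀ k : Fin 6, (if k = 0 then 0 else if embR i = -embR k then 1 else 0 : F) = 0 := fun l => by
    split_ifs with a b
    exacts [rfl, absurd b ((k _ _).2 a), rfl]
  rw [← emb_mul6, e]
  simp [mul_apply, embC6, (k _ _).1, k']

theorem emb_bd (h2 : (2 : F) ≠ 0) {g : GL I11 F} (h : g * bd ((1, -1) : P56 F) = bd ((1, -1) : P56 F) * g) :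
    ∃ c, bd c = g := by
  have ez : (bd ((1, -1) : P56 F)).1 = fromBlocks 1 0 0 (-1) := rfl
  have key : ∀ g : GL I11 F, g * bd ((1, -1) : P56 F) = bd ((1, -1) : P56 F) * g →
      (g : Matrix I11 I11 F) = fromBlocks g.1.toBlocks₁₁ 0 0 g.1.toBlocks₂₂ := fun g h => by
    have h1 := congrArg Units.val h
    rw [Units.val_mul, Units.val_mul, ez, ← fromBlocks_toBlocks g.1, fromBlocks_multiply,
      fromBlocks_multiply, fromBlocks_inj] at h1
    simp only [Matrix.mul_zero, Matrix.mul_neg, Matrix.mul_one, zero_add, Matrix.one_mul, Matrix.zero_mul,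
      add_zero, Matrix.neg_mul] at h1
    have e : ∀ {m n : Type} (A : Matrix m n F), A = -A → A = 0 := fun A hA => by
      ext i j
      have := congrFun (congrFun hA i) j
      exact (mul_eq_zero.1 (show 2 * A i j = 0 by simp at this; linear_combination this)).resolve_left h2
    conv_lhs => rw [← fromBlocks_toBlocks g.1, e _ h1.2.1.symm, e _ h1.2.2.1]
  have h1 := key g h
  have h3 := key g⁻¹ (by rw [inv_mul_eq_iff_eq_mul, ← mul_assoc, h, mul_inv_cancel_right])
  have h4 := g.mul_inv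
  have h5 := g.inv_mul
  rw [h1, h3, fromBlocks_multiply, ← fromBlocks_one, fromBlocks_inj] at h4 h5
  simp only [Matrix.mul_zero, zero_add, Matrix.zero_mul, add_zero] at h4 h5
  exact ⟨(⟨_, _, h4.1, h5.1⟩, ⟨_, _, h4.2.2.2, h5.2.2.2⟩), Units.ext h1.symm⟩

end CfsgLib.Wl11
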