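import Mathlib
import Cfsg.Agent.Lib.Wl11.EmbA

/-! The centraliser of `z`.  See `plans/WL11.md`. -/

set_option autoImplicit false
set_option linter.unusedSectionVars false

namespace CfsgLib.Wl11

open Matrix Subgroup Cfsg Cfsg.Geo CfsgLib.Asch CfsgLib.Wl5
open CfsgLib.Wl7 (mem3 closure3_le)
open scoped commutatorElement MatrixGroups

variable {F : Type*} [Field F] [Finite F] {ζ : Fˣ} {x y u s t z : GL (Fin 11) F}

theorem exists_emb (h2 : (2 : F) ≠ 0) (h : Std ζ x y u s t z) :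
    ∃ (ε : P56 F →* GL (Fin 11) F) (a b c : P56 F), Emb ζ u s t z ε a b c := by
  obtain ⟨k1, k2⟩ := emb_B (h := (2 : F)⁻¹) (inv_mul_cancel₀ h2)
  have pr := h.prim
  have h7 := pr.pow_eq_one
  obtain ⟨g2, g0⟩ := we_gs pr
  obtain ⟨z5, z6⟩ := emb_Z (F := F)
  let ε : P56 F →* GL (Fin 11) F := (trG k2 k1).toMonoidHom.comp bd
  have cε : ∀ k : P56 F, (ε k).1 = fromCols (embC5 F) (embC6 F) * fromBlocks k.1.1 0 0 k.2.1 *
      fromRows ((2 : F)⁻¹ • (embC5 F)ᵀ) ((2 : F)⁻¹ • embD6 F) := fun _ => rfl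
  have col : ∀ k : P56 F, (ε k).1 * embC5 F = embC5 F * k.1.1 ∧ (ε k).1 * embC6 F = embC6 F * k.2.1 := fun k => by
    have : (ε k).1 * fromCols (embC5 F) (embC6 F) = fromCols (embC5 F) (embC6 F) * fromBlocks k.1.1 0 0 k.2.1 := by
      rw [cε, Matrix.mul_assoc, k2, Matrix.mul_one]
    rw [mul_fromCols, fromCols_mul_fromBlocks, Matrix.mul_zero, Matrix.mul_zero, add_zero, zero_add] at this
    exact fromCols_inj.eq_iff.1 this
  have ext : ∀ M N : M11x F, M * embC5 F = N * embC5 F → M * embC6 F = N * embC6 F → M = N := fun M N e e' => by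
    rw [← Matrix.mul_one M, ← Matrix.mul_one N, ← k1, ← Matrix.mul_assoc, ← Matrix.mul_assoc, mul_fromCols,
      mul_fromCols, e, e']
  have ez : ε (1, -1) = z := Units.ext (ext _ _ (by rw [(col _).1, h.ez, Matrix.neg_mul, z5]; simp)
    (by rw [(col _).2, h.ez, Matrix.neg_mul, z6]; simp))
  have cent : ∀ g : GL (Fin 11) F, g * z = z * g → ∃ e, ε e = g := fun g hg => by
    obtain ⟨c, e⟩ := emb_bd h2 (g := (trG k2 k1).symm g) ((trG k2 k1).injective (by
      rw [map_mul, map_mul, MulEquiv.apply_symm_apply]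
      change g * ε (1, -1) = ε (1, -1) * g
      rw [ez, hg]))
    exact ⟨c, (congrArg (trG k2 k1) e).trans ((trG k2 k1).apply_symm_apply g)⟩
  have es : s.1 = -(gs (ζ : F))⁻¹ • F11 (ζ : F) := by
    rw [neg_smul, ← smul_neg, ← h.es, smul_smul, inv_mul_cancel₀ g0, one_smul]
  obtain ⟨a, ea⟩ := cent u (Units.ext (by
    rw [Units.val_mul, Units.val_mul, h.ez, h.eu, neg_mul, mul_neg, we_Z (z := (ζ : F)), we_U, we_MM h7, we_MM h7]
    congr 2
    decide))
  obtain ⟨b, eb⟩ := cent s (Units.ext (by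
    rw [Units.val_mul, Units.val_mul, h.ez, es, neg_mul, mul_neg, Matrix.mul_smul, Matrix.smul_mul,
      we_Z (z := (ζ : F)), we_F, we_QM h7, we_MQ h7 (fun j => -j) _ (by decide)]
    congr 3
    decide))
  obtain ⟨c, ec⟩ := cent t (Units.ext (by
    rw [Units.val_mul, Units.val_mul, h.ez, h.et, neg_mul, mul_neg, we_Z (z := (ζ : F)), we_T (z := (ζ : F)),
      we_MM h7, we_MM h7]
    congr 2
    decide))
  obtain ⟨w, hw⟩ : ∃ w : F, (ζ : F) = w := ⟨_, rfl⟩
  have eu := h.eu
  rw [hw] at pr h7 g2 g0 es eu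
  have hs := we_geom pr
  have et := h.et
  have ne : ∀ {i j : Fin 11}, w ^ (i : ℕ) = w ^ (j : ℕ) → i = j := fun e =>
    Fin.ext (pr.pow_inj (Fin.is_lt _) (Fin.is_lt _) e)
  have a5 : a.1.1 = diagonal fun i => w ^ ((6 * embP i * embP i : Fin 11) : ℕ) := by
    have k : ∀ i k : Fin 5, (embP i = embP k ↔ i = k) ∧ embP i ≠ -embP k := by decide
    ext i j
    rw [emb_row5 (col a).1, ea, eu]
    simp only [U11, diagonal_apply, (k _ _).1, (k _ _).2, if_false, sub_zero]
  have a6 : a.2.1 = diagonal fun i => w ^ ((6 * embR i * embR i : Fin 11) : ℕ) := by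
    have k : ∀ i k : Fin 6, (embR i = embR k ↔ i = k) ∧ (k ≠ 0 → embR i ≠ -embR k) := by decide
    ext i j
    rw [emb_row6 (col a).2, ea, eu]
    by_cases hj : j = 0
    · simp only [U11, diagonal_apply, (k _ _).1, hj, if_true, add_zero]
    · simp only [U11, diagonal_apply, (k _ _).1, (k _ _).2 hj, hj, if_false, add_zero]
  have c5 : ∀ (n : ℕ) (i j : Fin 5), embP i = (3 * ·)^[n] (embP j) → embP i ≠ (3 * ·)^[n] (-embP j) →
      (c.1.1 ^ n) i j = 1 := fun n i j e1 e2 => by
    have := emb_row5 (col (c ^ n)).1 i j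
    rw [map_pow, ec, Units.val_pow_eq_pow_val, et, we_T (z := w), we_ppow h7] at this
    simp only [weM, of_apply, if_pos e1, if_neg e2, Pi.zero_apply, weE_zero, sub_zero] at this
    exact this
  have i5 : Function.Injective fun i => w ^ ((6 * embP i * embP i : Fin 11) : ℕ) := fun i j e => by
    have := ne e
    clear e
    revert i j
    decide
  have gi : -(gs w)⁻¹ ≠ 0 := neg_ne_zero.2 (inv_ne_zero g0)
  refine ⟨ε, a, b, c, (trG k2 k1).injective.comp fun p q e => ?_, fun g => ?_, cent, ez, ea, eb, ec,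
    weil_top i5 (a5 ▸ coe_mem_env (subset_closure (by simp))) fun i j =>
      ⟨_, pow_mem (coe_mem_env (show c.1 ∈ _ from subset_closure (by simp))) (i - j).val, ?_⟩,
    weil_top (d := fun i => w ^ ((6 * embR i * embR i : Fin 11) : ℕ)) ?_ (a6 ▸ coe_mem_env (mem3 _ _ _).1) fun i j =>
      ⟨_, coe_mem_env (mem3 _ _ _).2.1, ?_⟩, ?_, ⟨_, i5, a5⟩, ext _ _ ?_ ?_⟩
  · have := fromBlocks_inj.1 (congrArg Units.val e)
    exact Prod.ext (Units.ext this.1) (Units.ext this.2.2.2)
  · rw [cε, det_conj_of_mul_eq_one k1 k2, det_fromBlocks_zero₂₁]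
  · rw [c5 _ i j (by revert i j; decide) (by revert i j; decide)]
    exact one_ne_zero
  · intro i j e
    have := ne e
    clear e
    revert i j
    decide
  · have w0 : w ≠ 0 := pr.ne_zero (by norm_num)
    have : ∀ m n : ℕ, w ^ m + w ^ n ≠ 0 := fun m n e => h2 (by
      have := congrArg (· ^ 11) (eq_neg_of_add_eq_zero_left e)
      simp only [Odd.neg_pow (by decide : Odd 11), ← pow_mul, mul_comm _ 11] at this
      simp only [pow_mul, h7, one_pow] at this
      linear_combination this)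
    rw [emb_row6 (col b).2, eb, es]
    split_ifs
    · rw [add_zero]
      exact mul_ne_zero gi (pow_ne_zero _ w0)
    · rw [Matrix.smul_apply, Matrix.smul_apply, smul_eq_mul, smul_eq_mul, ← mul_add]
      exact mul_ne_zero gi (this _ _)
  · have : (a.1⁻¹).1 = diagonal fun i => w ^ ((5 * embP i * embP i : Fin 11) : ℕ) :=
      Units.inv_eq_of_mul_eq_one_right (by
        rw [a5, diagonal_mul_diagonal, ← diagonal_one]
        congr 1
        ext i
        refine (weE_add h7 _ _).symm.trans ?_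
        rw [(by decide : ∀ i : Fin 5, 6 * embP i * embP i + 5 * embP i * embP i = 0), weE_zero])
    rw [this, a5, trace_diagonal, trace_diagonal, Fin.sum_univ_five, Fin.sum_univ_five]
    intro e
    change w ^ 6 + w ^ 10 + w ^ 2 + w ^ 7 + w ^ 8 = w ^ 5 + w ^ 1 + w ^ 9 + w ^ 4 + w ^ 3 at e
    refine g0 ?_
    rw [gs]
    linear_combination hs + e
  · rw [Matrix.smul_mul, (col _).1, hw, ← eu, ← ea, Matrix.add_mul, Matrix.add_mul, Matrix.mul_assoc, Matrix.sub_mul,
      z5, Matrix.one_mul, sub_neg_eq_add, Matrix.mul_add, (col a).1, add_neg_cancel, zero_add, two_smul]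
  · rw [Matrix.smul_mul, (col _).2, Matrix.add_mul, Matrix.add_mul, Matrix.mul_assoc, Matrix.sub_mul,
      z6, Matrix.one_mul, sub_self, Matrix.mul_zero, add_zero, two_smul]
    simp

end CfsgLib.Wl11
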