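import Mathlib
import Cfsg.Agent.Lib.Wl11.Odd
import Cfsg.Agent.Lib.Wl11.Fin

/-! The normaliser of `11^(1+2)` is maximal in `SL₁₁(q)`.  See `plans/WL11.md`. -/

set_option autoImplicit false

namespace CfsgLib.Wl11

open Matrix Subgroup Cfsg Cfsg.Geo CfsgLib.Asch CfsgLib.Wl5 CfsgLib.Recog

universe u

variable {F : Type u} [Field F] [Fintype F] {p : ℕ}

theorem sub_card (hp : p.Prime) (hc : Fintype.card F = p ∨ Fintype.card F = p ^ 5) (F₀ : Subfield F) :
    F₀ = ⊤ ∨ (Nat.card F₀ = p ∧ Fintype.card F = p ^ 5) := by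
  have e : Nat.card F = Nat.card F₀ ^ Module.finrank F₀ F := Module.natCard_eq_pow_finrank
  have t : Nat.card F₀ = Nat.card F → F₀ = ⊤ := fun h =>
    SetLike.coe_injective (Set.eq_univ_of_forall fun a => by
      have : F₀.toAddSubgroup = ⊤ := AddSubgroup.eq_top_of_card_eq _ h
      exact this.ge (AddSubgroup.mem_top a))
  rw [Nat.card_eq_fintype_card (α := F)] at e t
  rcases hc with hc | hc
  · exact Or.inl (t ((hp.pow_eq_iff.1 (e.symm.trans hc)).1.trans hc.symm))
  · obtain ⟨k, -, hk⟩ := (Nat.dvd_prime_pow hp).1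
      (show Nat.card F₀ ∣ p ^ 5 from hc ▸ e ▸ dvd_pow_self _ Module.finrank_pos.ne')
    rw [hc, hk, ← pow_mul] at e
    rcases (Nat.dvd_prime Nat.prime_five).1 ⟨_, Nat.pow_right_injective hp.two_le e⟩ with rfl | rfl
    · exact Or.inr ⟨hk.trans (pow_one p), hc⟩
    · exact Or.inl (t (hk.trans hc.symm))

theorem fld_of (hp : p.Prime) [CharP F p] (h : (Fintype.card F = p ∧ p % 11 = 1) ∨
    (Fintype.card F = p ^ 5 ∧ (p % 11 = 3 ∨ p % 11 = 4 ∨ p % 11 = 5 ∨ p % 11 = 9))) : Fld F := by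
  have sq (k q : ℕ) (hk : k % 2 = 1) (e : p ^ k = q ^ 2) : False := by
    obtain ⟨m, -, rfl⟩ := (Nat.dvd_prime_pow hp).1 (show q ∣ p ^ k from e ▸ dvd_pow_self _ two_ne_zero)
    rw [← pow_mul] at e
    have := Nat.pow_right_injective hp.two_le e
    omega
  refine ⟨fun h0 => ?_, fun q e => ?_, fun F₀ h7 => (sub_card hp (h.imp And.left And.left) F₀).resolve_right
    fun ⟨e1, e2⟩ => ?_⟩
  · have := (Nat.prime_dvd_prime_iff_eq hp Nat.prime_two).1 ((CharP.cast_eq_zero_iff F p 2).1 (by exact_mod_cast h0))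
    omega
  · rw [Nat.card_eq_fintype_card] at e
    exact h.elim (fun h => sq 1 q rfl (by rw [pow_one, ← h.1, e])) fun h => sq 5 q rfl (by rw [← h.1, e])
  · rw [e1] at h7
    have h1 : p ^ 2 % 11 = 1 := by have := Nat.pow_pos (n := 2) hp.pos; omega
    rcases h with h | ⟨-, h | h | h | h⟩
    · exact absurd (Nat.pow_right_injective hp.two_le ((pow_one p).trans (h.1.symm.trans e2))) (by decide)
    all_goals rw [Nat.pow_mod, h] at h1; exact absurd h1 (by decide)

omit [Fintype F] in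
theorem max_of {F' : Type*} [Field F'] (Φ : GL (Fin 11) F ≃* GL (Fin 11) F')
    (hΦ : ∀ g, Φ g ∈ specialLinear (Fin 11) F' ↔ g ∈ specialLinear (Fin 11) F) {x y : GL (Fin 11) F}
    (h : IsMaximalIn (specialLinear (Fin 11) F') (NS (closure {Φ x, Φ y}))) :
    IsMaximalIn (specialLinear (Fin 11) F) (subgroupNormalizer (closure {x, y}) ⊓ specialLinear (Fin 11) F) := by
  have := ClMax.isMaximalIn_comap Φ h
  have e : (specialLinear (Fin 11) F').comap Φ.toMonoidHom = specialLinear (Fin 11) F := ext hΦ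
  have e2 : closure {Φ x, Φ y} = (closure {x, y}).map Φ.toMonoidHom := by
    rw [MonoidHom.map_closure, Set.image_pair]; rfl
  rwa [comap_inf, e, comap_normalizer_eq_of_surjective _ Φ.surjective, e2,
    comap_map_eq_self_of_injective Φ.injective] at this

theorem sl11_weil (res : ∀ (E : Type u) [Field E] [Fintype E], Res5 E) (hp : p.Prime) [CharP F p]
    (h : (Fintype.card F = p ∧ p % 11 = 1) ∨
      (Fintype.card F = p ^ 5 ∧ (p % 11 = 3 ∨ p % 11 = 4 ∨ p % 11 = 5 ∨ p % 11 = 9))) {R : Subgroup (GL (Fin 11) F)}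
    (hR : IsLinearSymplecticTypeData 11 R) :
    IsMaximalIn (specialLinear (Fin 11) F) (subgroupNormalizer R ⊓ specialLinear (Fin 11) F) := by
  have hZ : Nat.card (center R) = 11 := by
    obtain ⟨_, _, -, -, h | h | h⟩ := hR.field
    exacts [h.2.2.1, absurd h.1 (by decide), absurd h.1 (by decide)]
  have : Fact (Nat.Prime 11) := ⟨by norm_num⟩
  obtain ⟨ζ, hζ⟩ := exists_prime_orderOf_dvd_card' (G := Fˣ) 11 (by
    classical
    rw [Nat.card_eq_fintype_card, Fintype.card_units]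
    refine (Nat.modEq_iff_dvd' Fintype.card_pos).1 ?_
    rcases h with ⟨h1, h⟩ | ⟨h1, h | h | h | h⟩ <;> rw [h1, Nat.ModEq]
    · exact h.symm
    all_goals rw [Nat.pow_mod, h])
  have hζ' : IsPrimitiveRoot (ζ : F) 11 := IsPrimitiveRoot.coe_units_iff.2 (hζ ▸ IsPrimitiveRoot.orderOf ζ)
  obtain ⟨x, y, B, B', h1, h3, rfl, ex, ey⟩ := exists_nf11 hR.symplecticType hR.absIrred hZ hζ'
  obtain ⟨x', y', u, s, t, z, hs⟩ := exists_std hζ'
  refine max_of (trG h1 h3) (weil_sl h1 h3) ?_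
  rw [show trG h1 h3 x = x' from Units.ext ((weil_tr h1 h3 ex).trans hs.ex.symm),
    show trG h1 h3 y = y' from Units.ext ((weil_tr h1 h3 ey).trans hs.ey.symm)]
  exact hs.max (odd_case res (fld_of hp h) hs)

end CfsgLib.Wl11
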